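import Cfsg.Agent.H400.BlockDefect
import Cfsg.Agent.H400.LieLocal
import Cfsg.Agent.OddHalf.Small.RankOne
import Cfsg.Agent.H503.TwoRegD

/-!
# Blocks of central extensions of groups of local characteristic `p` (helper60)

* `hum_loc` : `σ : G → S` is onto with central kernel and all `p`-local subgroups of `S` have characteristic `p`;
  then a defect group of a `p`-block of `G` lies in the kernel or is a Sylow `p`-subgroup;
* `locChar_lie`, `humphreys` : the groups of Lie type in characteristic `p`.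
-/

set_option autoImplicit false

namespace Cfsg.Agent.HZ.Two

open Cfsg Subgroup
open Cfsg.Agent.BpLieP.Big (LocChar)

variable {G S : Type*} [Group G] [Finite G] [Group S] {p : ℕ} [hp : Fact p.Prime]

omit [Finite G] in
/-- central `p`-elements lie in every radical subgroup -/
theorem mem_of_central {D : Subgroup G}
    (hrad : (pCore p (normalizer (D : Set G))).map (normalizer (D : Set G)).subtype = D) {z : G}
    (hz : z ∈ center G) {k : ℕ} (hk : z ^ p ^ k = 1) : z ∈ D := by
  have hzN : z ∈ normalizer (D : Set G) := by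
    rw [mem_normalizer_iff]
    intro h
    rw [← mem_center_iff.1 hz h, mul_inv_cancel_right]
  let z' : normalizer (D : Set G) := ⟨z, hzN⟩
  have hc : z' ∈ center (normalizer (D : Set G)) :=
    mem_center_iff.2 fun g => Subtype.ext (mem_center_iff.1 hz g)
  have h1 : zpowers z' ≤ pCore p (normalizer (D : Set G)) := by
    apply le_sSup
    refine ⟨⟨fun a ha g => ?_⟩, ?_⟩
    · have h2 : a ∈ center (normalizer (D : Set G)) := (zpowers_le_of_mem hc) ha
      rwa [mem_center_iff.1 h2 g, mul_inv_cancel_right]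
    · rintro ⟨a, n, rfl⟩
      refine ⟨k, Subtype.ext ?_⟩
      have h3 : z' ^ p ^ k = 1 := Subtype.ext hk
      change (z' ^ n) ^ p ^ k = 1
      rw [← zpow_natCast, ← zpow_mul, mul_comm, zpow_mul, zpow_natCast, h3, one_zpow]
  exact hrad.le ⟨z', h1 (mem_zpowers z'), rfl⟩

omit [Finite G] in
/-- an element which normalises a radical `p`-subgroup modulo a central kernel normalises it -/
theorem conj_mem_of {σ : G →* S} (hk : σ.ker ≤ center G) {D : Subgroup G} (hDp : IsPGroup p D)
    (hrad : (pCore p (normalizer (D : Set G))).map (normalizer (D : Set G)).subtype = D) {g : G}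
    (hg : σ g ∈ normalizer (D.map σ : Set S)) {d : G} (hd : d ∈ D) : g * d * g⁻¹ ∈ D := by
  have h1 : σ g * σ d * (σ g)⁻¹ ∈ D.map σ := (mem_normalizer_iff.1 hg _).1 ⟨d, hd, rfl⟩
  obtain ⟨e, he, h2⟩ := h1
  have hz : e⁻¹ * (g * d * g⁻¹) ∈ center G := by
    apply hk
    rw [MonoidHom.mem_ker, map_mul, map_inv, h2, map_mul, map_mul, map_inv, inv_mul_cancel]
  obtain ⟨a, ha⟩ := hDp ⟨d, hd⟩
  obtain ⟨b, hb⟩ := hDp ⟨e, he⟩
  have ha' : d ^ p ^ a = 1 := congrArg Subtype.val ha
  have hb' : e ^ p ^ b = 1 := congrArg Subtype.val hb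
  have h3 : g * d * g⁻¹ = e * (e⁻¹ * (g * d * g⁻¹)) := by group
  have hc : Commute e (e⁻¹ * (g * d * g⁻¹)) := mem_center_iff.1 hz e
  have h4 : (e⁻¹ * (g * d * g⁻¹)) ^ p ^ (a + b) = 1 := by
    have h5 : (g * d * g⁻¹) ^ p ^ (a + b) = 1 := by
      rw [conj_pow, pow_add, pow_mul, ha', one_pow, mul_one, mul_inv_cancel]
    have h6 : e ^ p ^ (a + b) = 1 := by rw [pow_add, mul_comm, pow_mul, hb', one_pow]
    rw [h3, hc.mul_pow, h6, one_mul] at h5
    exact h5
  rw [h3]
  exact D.mul_mem he (mem_of_central hrad hz h4)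

/-- an element of order prime to `p` which centralises a radical `p`-subgroup lies in the kernel -/
theorem mem_ker_of {σ : G →* S} (hσ : Function.Surjective σ) (hk : σ.ker ≤ center G) (hloc : LocChar p S)
    {D : Subgroup G} (hDp : IsPGroup p D) (hD1 : ¬ D ≤ σ.ker)
    (hrad : (pCore p (normalizer (D : Set G))).map (normalizer (D : Set G)).subtype = D) {x : G}
    (hx : ¬ p ∣ orderOf x) (hxD : ∀ d ∈ D, d * x = x * d) : x ∈ σ.ker := by
  have hfin : Finite S := Finite.of_surjective σ hσ
  have hb1 : D.map σ ≠ ⊥ := fun h => hD1 ((map_eq_bot_iff D).1 h)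
  have hB : ∀ g ∈ normalizer (D : Set G), σ g ∈ normalizer (D.map σ : Set S) := by
    intro g hg
    exact le_normalizer_map σ ⟨g, hg, rfl⟩
  have hA : ∀ g, σ g ∈ normalizer (D.map σ : Set S) → g ∈ normalizer (D : Set G) := by
    intro g hg
    rw [mem_normalizer_iff]
    intro h
    refine ⟨fun hh => conj_mem_of hk hDp hrad hg hh, fun hh => ?_⟩
    have h1 := conj_mem_of hk hDp hrad (g := g⁻¹) (by rw [map_inv]; exact inv_mem hg) hh
    have h2 : g⁻¹ * (g * h * g⁻¹) * g⁻¹⁻¹ = h := by group
    rwa [h2] at h1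
  let φ : normalizer (D : Set G) →* normalizer (D.map σ : Set S) :=
    (σ.comp (normalizer (D : Set G)).subtype).codRestrict _ fun g => hB g g.2
  have hφ : ∀ g, (φ g : S) = σ g := fun _ => rfl
  have hφs : Function.Surjective φ := by
    rintro ⟨s, hs⟩
    obtain ⟨g, rfl⟩ := hσ s
    exact ⟨⟨g, hA g hs⟩, rfl⟩
  have hxN : x ∈ normalizer (D : Set G) :=
    centralizer_le_normalizer _ (mem_centralizer_iff.2 fun d hd => hxD d hd)
  have hOn : (pCore p (normalizer (D.map σ : Set S))).Normal := Lib.Cores.pCore_normal p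
  have hOp : IsPGroup p (pCore p (normalizer (D.map σ : Set S))) := Lib.Cores.pCore_isPGroup p
  have hY : (pCore p (normalizer (D.map σ : Set S))).comap φ ≤
      center (normalizer (D : Set G)) ⊔ pCore p (normalizer (D : Set G)) := by
    apply H503.TwoReg.le_center_sup_pCore hp.out
    rintro ⟨_, y, hy, rfl⟩
    obtain ⟨k, hk1⟩ := hOp ⟨φ y, hy⟩
    refine ⟨k, Subtype.ext ?_⟩
    change (QuotientGroup.mk' (center (normalizer (D : Set G))) y) ^ p ^ k = 1
    rw [← map_pow, QuotientGroup.mk'_apply, QuotientGroup.eq_one_iff]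
    have h1 : φ (y ^ p ^ k) = 1 := by rw [map_pow]; exact congrArg Subtype.val hk1
    have h2 : ((y ^ p ^ k : normalizer (D : Set G)) : G) ∈ center G := by
      apply hk
      rw [MonoidHom.mem_ker, ← hφ, h1]
      rfl
    exact mem_center_iff.2 fun g => Subtype.ext (mem_center_iff.1 h2 g)
  have hcent : center (normalizer (D : Set G)) ⊔ pCore p (normalizer (D : Set G)) ≤
      centralizer ({⟨x, hxN⟩} : Set (normalizer (D : Set G))) := by
    refine sup_le (center_le_centralizer _) fun r hr => ?_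
    rw [mem_centralizer_singleton_iff]
    exact Subtype.ext (hxD r (hrad.le ⟨r, hr, rfl⟩))
  have hxO : φ ⟨x, hxN⟩ ∈ pCore p (normalizer (D.map σ : Set S)) := by
    apply hloc (D.map σ) (hDp.map σ) hb1
    rw [mem_centralizer_iff]
    intro s hs
    obtain ⟨y, rfl⟩ := hφs s
    have h1 := mem_centralizer_singleton_iff.1 (hcent (hY hs))
    rw [← map_mul, ← map_mul, h1]
  obtain ⟨k, hk1⟩ := hOp ⟨_, hxO⟩
  have h1 : σ x ^ p ^ k = 1 := congrArg (fun t => ((t : normalizer (D.map σ : Set S)) : S)) (congrArg Subtype.val hk1)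
  have h2 : orderOf (σ x) ∣ orderOf x := orderOf_map_dvd σ x
  have h3 : orderOf (σ x) ∣ p ^ k := orderOf_dvd_of_pow_eq_one h1
  have h4 : (p ^ k).Coprime (orderOf x) := ((Nat.Prime.coprime_iff_not_dvd hp.out).2 hx).pow_left k
  rw [MonoidHom.mem_ker, ← orderOf_eq_one_iff]
  exact Nat.eq_one_of_dvd_coprimes h4 h3 h2

/-- **Central extensions of groups of local characteristic `p`.** -/
theorem hum_loc (σ : G →* S) (hσ : Function.Surjective σ) (hk : σ.ker ≤ center G) (hloc : LocChar p S)
    {M : Ideal AlgInt} (hM : IsPModular p M) {B : Set (IrrCharacter G)} (hB : IsPBlock M B)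
    {D : Subgroup G} (hD : IsDefectGroup p M B D) : D ≤ σ.ker ∨ ∃ P : Sylow p G, (P : Subgroup G) = D := by
  by_cases hD1 : D ≤ σ.ker
  · exact Or.inl hD1
  right
  have hDp := H400.BlockDefect.isPGroup_defectGroup hD
  have hrad := Cfsg.Agent.S0955.result p M hM B hB D hD
  obtain ⟨P, hP⟩ := hDp.exists_le_sylow
  obtain ⟨x, hx, ⟨T, hT⟩, hPD⟩ := Cfsg.Agent.S0956.result p M hM B hB D hD P hP
  have hxk : x ∈ σ.ker := by
    refine mem_ker_of hσ hk hloc hDp hD1 hrad hx fun d hd => ?_
    rw [← hT] at hd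
    obtain ⟨z, -, rfl⟩ := hd
    exact (mem_centralizer_iff.1 z.2 x rfl).symm
  refine ⟨P, ?_⟩
  have h4 : (P : Subgroup G).map (MulAut.conj x).toMonoidHom = P := by
    have h5 : (MulAut.conj x).toMonoidHom = MonoidHom.id G := by
      ext y
      change x * y * x⁻¹ = y
      rw [← mem_center_iff.1 (hk hxk) y, mul_inv_cancel_right]
    rw [h5, map_id]
  rw [← hPD, h4, inf_idem]

theorem locChar_of_two {X : Type*} [Group X] (h : IsCharacteristicTwoType X) : LocChar 2 X := h.2

/-- the groups of Lie type have local characteristic `p` -/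
theorem locChar_lie {X : Type*} [Group X] [Finite X] (h : IsLieTypeChar p X) : LocChar p X := by
  by_cases hsz : p = 2 ∧ Lie.IsoSuzuki X
  · obtain ⟨rfl, h2⟩ := hsz
    exact locChar_of_two (OddHalf.Small.RankOne.sz h2)
  · exact H400.LieLocal.local_char_of_lie h hsz

/-- **Blocks in the defining characteristic, all central extensions.** -/
theorem humphreys (σ : G →* S) (hσ : Function.Surjective σ) (hk : σ.ker ≤ center G) (hS : IsLieTypeChar p S)
    {M : Ideal AlgInt} (hM : IsPModular p M) {B : Set (IrrCharacter G)} (hB : IsPBlock M B)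
    {D : Subgroup G} (hD : IsDefectGroup p M B D) :
    D ≤ center G ∨ ∃ P : Sylow p G, (P : Subgroup G) = D := by
  have hfin : Finite S := Finite.of_surjective σ hσ
  exact (hum_loc σ hσ hk (locChar_lie hS) hM hB hD).imp_left fun h => h.trans hk

end Cfsg.Agent.HZ.Two
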