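import Cfsg.Agent.HZ.Basic
import Cfsg.Agent.HZ.Two.Hum
import Cfsg.Agent.ODD.Fin.Main
import Cfsg.Agent.EvenType.ChevTwoTits
import Cfsg.Agent.OddHalf.Small.Plug
import Cfsg.Agent.OddHalf.Small.Mathieu
import Cfsg.Agent.OddHalf.Small.M24Char
import Cfsg.Agent.OddHalf.Small.J3
import Cfsg.Agent.SevenCases.SporCo2
import Cfsg.Agent.SevenCases.SporTh
import Cfsg.Agent.SevenCases.SporJ4

/-!
# HZ (S4909): the covers of the groups of characteristic two type (helper60)
-/

set_option autoImplicit false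

namespace Cfsg.Agent.HZ.Two

open Cfsg Subgroup Cfsg.Agent.ODD Cfsg.Agent.ODD.Red
open Cfsg.Agent.BpLieP.Big (LocChar)

/-- central extensions of groups whose `2`-local subgroups have characteristic two -/
theorem hf_of_loc {M : Ideal AlgInt} (hM : IsPModular 2 M) {X : Type} [Group X] [Finite X]
    (h : LocChar 2 (X ⧸ center X)) : HF M X := by
  intro χ hχ hf h0 σ hσ hfix
  have : Fact (Nat.Prime 2) := ⟨Nat.prime_two⟩
  obtain ⟨y, hy⟩ := h0
  obtain ⟨P⟩ : Nonempty (Sylow 2 (centralizer ({y} : Set X))) := inferInstance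
  have hD := Good.defect hM hχ hy (D := (P : Subgroup (centralizer ({y} : Set X))).map (centralizer ({y} : Set X)).subtype)
    ⟨P, rfl⟩
  rcases hum_loc (QuotientGroup.mk' (center X)) (QuotientGroup.mk'_surjective _) (QuotientGroup.ker_mk' _).le h hM
    ⟨⟨χ, hχ⟩, rfl⟩ hD with h1 | ⟨Q, hQ⟩
  · rw [QuotientGroup.ker_mk'] at h1
    refine rat2_of_four hM hχ hy (fun u hu ⟨k, hk⟩ => ?_) hσ hfix
    have huC : u ∈ centralizer ({y} : Set X) := mem_centralizer_singleton_iff.2 hu
    have hk1 : u ^ 2 ^ k = 1 := by rw [← hk, pow_orderOf_eq_one]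
    have hp : IsPGroup 2 (zpowers (⟨u, huC⟩ : centralizer ({y} : Set X))) := by
      rintro ⟨_, n, rfl⟩
      refine ⟨k, Subtype.ext ?_⟩
      have h3 : (⟨u, huC⟩ : centralizer ({y} : Set X)) ^ 2 ^ k = 1 := Subtype.ext hk1
      change ((⟨u, huC⟩ : centralizer ({y} : Set X)) ^ n) ^ 2 ^ k = 1
      rw [← zpow_natCast, ← zpow_mul, mul_comm, zpow_mul, zpow_natCast, h3, one_zpow]
    obtain ⟨R, hR⟩ := hp.exists_le_sylow
    obtain ⟨c, hc⟩ := MulAction.exists_smul_eq (centralizer ({y} : Set X)) R P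
    have h2 : c * ⟨u, huC⟩ * c⁻¹ ∈ (P : Subgroup (centralizer ({y} : Set X))) := by
      rw [← hc]
      exact Subgroup.smul_mem_pointwise_smul _ (MulAut.conj c) _ (hR (mem_zpowers _))
    have h3 : (c : X) * u * (c : X)⁻¹ ∈ center X := h1 ⟨_, h2, rfl⟩
    have h4 : u ∈ center X := by
      have h5 := mem_center_iff.1 h3 (c : X)⁻¹
      have h6 : u = (c : X) * u * (c : X)⁻¹ := by
        calc u = (c : X)⁻¹ * ((c : X) * u * (c : X)⁻¹) * c := by group
          _ = (c : X) * u * (c : X)⁻¹ := by rw [h5]; group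
      rwa [h6]
    have h7 := central_sq hχ hf hσ hfix h4 hk1
    rw [show (4 : ℕ) = 2 * 2 from rfl, pow_mul, h7, one_pow]
  · refine rat2_of_fix Fin.qa hχ (Good.odd_deg hM hχ hy ?_) hσ.2 hfix
    have h1 : (Q : Subgroup X) ≤ centralizer ({y} : Set X) := by
      rw [hQ]
      exact map_subtype_le _
    have h2 := Subgroup.index_dvd_of_le h1
    rw [← Nat.not_even_iff_odd, even_iff_two_dvd]
    exact fun h3 => Q.not_dvd_index (h3.trans h2)

theorem row_of_loc {K : Fam} (h : ∀ (S : Type) [Group S] [Finite S], K S → LocChar 2 S) : Row K :=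
  fun _ hM _ _ _ _ hK _ => hf_of_loc hM (h _ hK)

theorem row_of_two {K : Fam} (h : ∀ (S : Type) [Group S] [Finite S], K S → IsCharacteristicTwoType S) : Row K :=
  row_of_loc fun S _ _ hK => locChar_of_two (h S hK)

/-- **`BoxN.two`** -/
theorem two : Row fun S _ => IsLieTypeChar 2 S :=
  row_of_loc fun _ _ _ h => have : Fact (Nat.Prime 2) := ⟨Nat.prime_two⟩; locChar_lie h

/-- **`BoxN.tits`** -/
theorem tits : Row fun S _ => Lie.IsoTits S := row_of_two fun _ _ _ h => EvenType.ChevTwoTits.charTwo h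

theorem m11 : Row fun S _ => Spor.IsoM11 S := row_of_two fun _ _ _ h => OddHalf.Small.M11.charTwo_of_iso h

theorem m22 : Row fun S _ => Spor.IsoM22 S := row_of_two fun _ _ _ h => OddHalf.Small.Mathieu.m22 h

theorem m23 : Row fun S _ => Spor.IsoM23 S := row_of_two fun _ _ _ h => OddHalf.Small.Mathieu.m23 h

theorem m24 : Row fun S _ => Spor.IsoM24 S := row_of_two fun _ _ _ h => OddHalf.Small.M24Char.m24 h

theorem j3 : Row fun S _ => Spor.IsoJ3 S := row_of_two fun S _ _ h => OddHalf.Small.J3.j3 S h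

theorem j4 : Row fun S _ => Spor.IsoJ4 S := row_of_two fun _ _ _ h => SevenCases.SporJ4.charTwo h

theorem co2 : Row fun S _ => Spor.IsoCo2 S := row_of_two fun _ _ _ h => SevenCases.SporCo2.charTwo h

theorem th : Row fun S _ => Spor.IsoTh S := row_of_two fun _ _ _ h => SevenCases.SporTh.charTwo h

end Cfsg.Agent.HZ.Two
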